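import Mathlib
import Cfsg.Agent.Lib.Thompson.QuadraticBase

/-!
# The elementary Hall–Higman quadratic lemma, odd order version

The prime `p` is odd (`p = 3` allowed) and the `p'`-subgroup `Y` has odd order.
-/

set_option autoImplicit false
set_option linter.unusedSectionVars false
set_option linter.unusedSimpArgs false
set_option linter.unusedVariables false
set_option linter.style.haveILetI false

namespace Cfsg.Agent.Lib.Solvable.QuadOdd

open Subgroup Cfsg.Agent.Lib.Thompson.QuadraticBase
open Cfsg.Agent.Lib.Thompson.QuadraticBase.Core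
open scoped commutatorElement

variable {p : ℕ} [hp : Fact p.Prime]
variable {V : Type*} [AddCommGroup V] [Module (ZMod p) V]

section core

variable {Y : Type*} [Group Y] [Fintype Y]
variable {σ : Y →* Module.End (ZMod p) V} {A : Module.End (ZMod p) V} {α : MulAut Y}

/-- The nonabelian case. -/
theorem nonabelian_case_odd (h : Core σ A α) (hne : ∃ c, α c ≠ c) (hD : commutator Y ≠ ⊤)
    (hnon : commutator Y ≠ ⊥) (hp2 : p ≠ 2) (hodd : Odd (Nat.card Y)) : False := by
  classical
  have hk2 : Nat.Coprime 2 p := (Nat.coprime_primes Nat.prime_two hp.out).mpr (Ne.symm hp2)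
  have hcen : ∀ {z : Y}, α z = z → ∀ y, y * z = z * y := fun hz y => h.fixed_central hne hD hz y
  have hfixD : ∀ {t : Y}, t ∈ commutator Y → α t = t := fun ht => h.fixed_of_mem_commutator hD ht
  have hDc : ∀ d ∈ commutator Y, ∀ y, d * y = y * d := fun d hd y => (hcen (hfixD hd) y).symm
  obtain ⟨K, W, hKD, hKne, ⟨w₀, hw₀W, hw₀⟩, h3, h4⟩ := exists_K h.inj (commutator Y) hDc hnon h.cop
  have hKc : ∀ k ∈ K, ∀ y, k * y = y * k := fun k hk y => hDc k (hKD hk) y
  -- the subgroup `N`
  let N : Subgroup Y :=
    { carrier := {x | ∀ g, g * x * g⁻¹ * x⁻¹ ∈ K}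
      mul_mem' := by
        intro x y hx hy g
        have h1 := hx g
        have h2 := hy g
        have h3 : g * (x * y) * g⁻¹ * (x * y)⁻¹ =
            (g * x * g⁻¹ * x⁻¹) * (x * (g * y * g⁻¹ * y⁻¹) * x⁻¹) := by group
        rw [h3, ← hKc _ h2 x, mul_inv_cancel_right]
        exact K.mul_mem h1 h2
      one_mem' := by intro g; simp [K.one_mem]
      inv_mem' := by
        intro x hx g
        have h1 := K.inv_mem (hx g)
        have h3 : g * x⁻¹ * g⁻¹ * x⁻¹⁻¹ = x⁻¹ * (g * x * g⁻¹ * x⁻¹)⁻¹ * x := by group
        rw [h3, ← hKc _ h1 x⁻¹, inv_mul_cancel_right]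
        exact h1 }
  have hNne : N ≠ ⊤ := by
    intro hN
    apply hKne
    apply le_antisymm hKD
    rw [_root_.commutator_def, Subgroup.commutator_le]
    intro x _ y _
    have hy : y ∈ N := by rw [hN]; exact mem_top y
    have := hy x
    simpa [commutatorElement_def] using this
  have hNinv : ∀ t ∈ N, α t ∈ N := by
    intro x hx g
    have h1 := hx (α⁻¹ g)
    have h2 : α ((α⁻¹ g) * x * (α⁻¹ g)⁻¹ * x⁻¹) = (α⁻¹ g) * x * (α⁻¹ g)⁻¹ * x⁻¹ := hfixD (hKD h1)
    have h3 : α ((α⁻¹ g) * x * (α⁻¹ g)⁻¹ * x⁻¹) = g * α x * g⁻¹ * (α x)⁻¹ := by simp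
    rw [← h3, h2]; exact h1
  have hfixN := h.hmin N hNne hNinv
  have hkill : ∀ x, α x ≠ x → ∀ w ∈ W, SS σ x w = 0 := by
    intro x hx w hw
    have hxN : x ∉ N := fun hh => hx (hfixN x hh)
    obtain ⟨g₀, hg₀⟩ : ∃ g₀, g₀ * x * g₀⁻¹ * x⁻¹ ∉ K := by
      by_contra hcon
      push Not at hcon
      exact hxN hcon
    have hzD : g₀ * x * g₀⁻¹ * x⁻¹ ∈ commutator Y := comm_mem_commutator g₀ x
    exact SS_kill h.cop h3 h4 hzD hg₀ (hDc _ hzD) hw
  -- products
  have hprod1 : ∀ u, α u ≠ u → α (u * (α u)⁻¹) ≠ u * (α u)⁻¹ := by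
    intro u hu ht
    apply hu
    have htc := hcen ht
    set t := u * (α u)⁻¹ with ht'
    have h1 : α u = u * t⁻¹ := by
      have : u = t * α u := by rw [ht']; group
      calc α u = t⁻¹ * u := by rw [this]; simp [ht']
        _ = u * t⁻¹ := by
          have := hcen (z := t⁻¹) (by rw [map_inv, ht]) u
          exact this.symm
    exact h.fix_of_mul_fixed (by rw [map_inv, ht]) h1
  have hprod2 : ∀ u, α u ≠ u → α (u * α u) ≠ u * α u := by
    intro u hu ht
    apply hu
    set t := u * α u with ht'
    have h1 : α u = u⁻¹ * t := by rw [ht']; group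
    have h2 : (α ^ 2) u = u * 1 := by
      rw [pow_two, MulAut.mul_apply, h1, map_mul, map_inv, ht, h1, mul_inv_rev, inv_inv, mul_one,
        mul_assoc, hcen ht u, inv_mul_cancel_left]
    exact h.fix_of_pow hk2 (by simp) h2
  have hcardc : (Fintype.card Y).Coprime p := by rw [← Nat.card_eq_fintype_card]; exact h.cop
  -- the main computation
  have hmain : ∀ c, α c ≠ c → ∀ w ∈ W, SS σ (uu α c * uu α c) w + (Fintype.card Y) • w = 0 := by
    intro c hc w hw
    have hu : α (uu α c) ≠ uu α c := fun hh => hc (h.fix_of_uu_fixed hh)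
    have h1 := congrArg (fun f => f w) (h.SS_identity c)
    simp only [LinearMap.add_apply, LinearMap.smul_apply, Module.End.one_apply] at h1
    rw [h1, hkill _ (hprod2 _ hu) w hw, hkill _ (hprod1 _ hu) w hw, add_zero]
  have hR2 : ∀ c, α c ≠ c → α (uu α c * uu α c) = uu α c * uu α c := by
    intro c hc
    by_contra hcon
    have h1 := hmain c hc w₀ hw₀W
    rw [hkill _ hcon w₀ hw₀W, zero_add] at h1
    exact hw₀ (eq_zero_of_nsmul hcardc h1)
  have hR3 : ∀ c, α c ≠ c → ∀ w ∈ W, σ (uu α c * uu α c) w = - w := by
    intro c hc w hw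
    have h1 := hmain c hc w hw
    have h2 := SS_central (σ := σ) (hcen (hR2 c hc))
    rw [h2, LinearMap.smul_apply, ← smul_add] at h1
    exact eq_neg_of_add_eq_zero_left (eq_zero_of_nsmul hcardc h1)
  -- the contradiction from `σ x w = - w` with `x` of odd order
  obtain ⟨c, hc⟩ := hne
  set x := uu α c * uu α c with hx
  have hpow : ∀ n : ℕ, (σ x ^ n) w₀ = (-1 : ℤ) ^ n • w₀ := by
    intro n
    induction n with
    | zero => simp
    | succ n ih =>
      rw [pow_succ, Module.End.mul_apply, hR3 c hc w₀ hw₀W, map_neg, ih, pow_succ]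
      simp
  have h1 := hpow (Nat.card Y)
  rw [← map_pow, pow_card_eq_one', map_one, Module.End.one_apply, hodd.neg_one_pow, neg_one_zsmul] at h1
  have h2 : (2 : ℕ) • w₀ = 0 := by
    rw [two_nsmul]
    nth_rewrite 1 [h1]
    simp
  exact hw₀ (eq_zero_of_nsmul hk2 h2)

end core

/-- **Elementary Hall–Higman lemma**, odd order form: `p` odd, `Y` of odd order. -/
theorem quadratic_centralizes_odd {X : Type*} [Group X] [Finite X] (ρ : X →* Module.End (ZMod p) V)
    (hρ : Function.Injective ρ) (hp2 : p ≠ 2) (a : X) (ha : (ρ a - 1) ^ 2 = 0) (Y : Subgroup X)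
    (hodd : Odd (Nat.card Y))
    (hcop : (Nat.card Y).Coprime p) (hnorm : ∀ y ∈ Y, a * y * a⁻¹ ∈ Y) : ∀ y ∈ Y, a * y * a⁻¹ = y := by
  classical
  have hap : a ^ p = 1 := by
    apply hρ
    rw [map_pow, pow_of_quad ha, map_one]
  have hinv : ∀ (Y : Subgroup X), (∀ y ∈ Y, a * y * a⁻¹ ∈ Y) → ∀ y ∈ Y, a⁻¹ * y * a ∈ Y := by
    intro Y hnorm y hy
    have key : ∀ n : ℕ, a ^ n * y * (a ^ n)⁻¹ ∈ Y := by
      intro n
      induction n with
      | zero => simpa using hy
      | succ k ih =>
        have := hnorm _ ih
        have h2 : a ^ (k + 1) * y * (a ^ (k + 1))⁻¹ = a * (a ^ k * y * (a ^ k)⁻¹) * a⁻¹ := by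
          rw [pow_succ']; group
        rwa [h2]
    have h1 := key (p - 1)
    have hap' : a ^ (p - 1) = a⁻¹ := by
      apply mul_left_cancel (a := a)
      rw [← pow_succ', Nat.sub_add_cancel hp.out.one_le, hap, mul_inv_cancel]
    rw [hap'] at h1
    simpa using h1
  have main : ∀ (n : ℕ) (Y : Subgroup X), Nat.card Y = n → Odd (Nat.card Y) → (Nat.card Y).Coprime p →
      (∀ y ∈ Y, a * y * a⁻¹ ∈ Y) → ∀ y ∈ Y, a * y * a⁻¹ = y := by
    intro n
    induction n using Nat.strong_induction_on with
    | _ n ih =>
      intro Y hcard hodd hcop hnorm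
      by_contra hcon
      push Not at hcon
      obtain ⟨y₀, hy₀, hne₀⟩ := hcon
      -- the action on `Y`
      set C₀ : Subgroup Y := (Subgroup.centralizer ({a} : Set X)).subgroupOf Y with hC₀
      have hmemC : ∀ t : Y, t ∈ C₀ ↔ a * (t : X) * a⁻¹ = t := by
        intro t
        rw [hC₀, Subgroup.mem_subgroupOf, Subgroup.mem_centralizer_singleton_iff]
        constructor
        · intro h; rw [← h]; simp
        · intro h
          have := congrArg (· * a) h
          simpa using this.symm
      have hidx : C₀.index ≠ 1 := by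
        intro h1
        rw [Subgroup.index_eq_one] at h1
        apply hne₀
        have : (⟨y₀, hy₀⟩ : Y) ∈ C₀ := by rw [h1]; exact mem_top _
        exact (hmemC _).mp this
      set r := C₀.index.minFac with hr
      have : Fact r.Prime := ⟨Nat.minFac_prime hidx⟩
      -- an invariant Sylow subgroup
      have hAK : zpowers a ≤ Subgroup.normalizer (Y : Set X) := by
        rw [zpowers_le, Subgroup.mem_normalizer_iff]
        intro h
        refine ⟨hnorm h, fun hh => ?_⟩
        have := hinv Y hnorm _ hh
        simpa [mul_assoc] using this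
      have hAcard : (Nat.card (zpowers a)).Coprime (Nat.card Y) := by
        rw [Nat.card_zpowers]
        exact (Nat.Coprime.coprime_dvd_left (orderOf_dvd_of_pow_eq_one hap) hcop.symm)
      have hsolv : Group.IsSolvable (zpowers a) ∨ Group.IsSolvable Y := Or.inl inferInstance
      obtain ⟨P, hP⟩ := Cfsg.Agent.Lib.Coprime.InvSylow.exists_invariant_sylow hAK hAcard hsolv r
      set R : Subgroup X := (P : Subgroup Y).map Y.subtype with hR
      have hRnorm : ∀ t ∈ R, a * t * a⁻¹ ∈ R := by
        intro t ht
        have := hP (mem_zpowers a)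
        exact (Subgroup.mem_normalizer_iff.mp this t).mp ht
      have hRcard : Nat.card R = Nat.card (P : Subgroup Y) :=
        (Nat.card_congr (Subgroup.equivMapOfInjective (P : Subgroup Y) Y.subtype Subtype.coe_injective).toEquiv).symm
      by_cases hPtop : (P : Subgroup Y) = ⊤
      · -- `Y` is an `r`-group: the core argument
        have hpg : IsPGroup r Y := by
          intro t
          have htP : t ∈ (P : Subgroup Y) := by rw [hPtop]; exact mem_top t
          obtain ⟨k, hk⟩ := P.isPGroup' ⟨t, htP⟩
          refine ⟨k, ?_⟩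
          have := congrArg Subtype.val hk
          simpa using this
        let _ : Fintype Y := Fintype.ofFinite Y
        let α : MulAut Y :=
          { toFun := fun y => ⟨a * y * a⁻¹, hnorm y y.2⟩
            invFun := fun y => ⟨a⁻¹ * y * a, hinv Y hnorm y y.2⟩
            left_inv := fun y => by ext; simp [mul_assoc]
            right_inv := fun y => by ext; simp [mul_assoc]
            map_mul' := fun x y => by ext; simp [mul_assoc] }
        have hαv : ∀ y : Y, ((α y : Y) : X) = a * y * a⁻¹ := fun y => rfl
        have hcore : Core (ρ.comp Y.subtype) (ρ a) α :=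
          { inj := hρ.comp Subtype.coe_injective
            quad := ha
            conj := by
              intro y
              simp only [MonoidHom.comp_apply, Subgroup.subtype_apply, hαv, ← map_mul]
              congr 1
              group
            cop := hcop
            hmin := by
              intro T hT hTinv t ht
              apply Subtype.ext
              rw [hαv]
              have hTcard : Nat.card (T.map Y.subtype) = Nat.card T :=
                (Nat.card_congr (Subgroup.equivMapOfInjective T Y.subtype Subtype.coe_injective).toEquiv).symm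
              refine ih (Nat.card (T.map Y.subtype)) ?_ (T.map Y.subtype) rfl ?_ ?_ ?_ _ ⟨t, ht, rfl⟩
              · rw [hTcard, ← hcard]
                exact card_lt_of_ne_top hT
              · rw [hTcard]
                exact Odd.of_dvd_nat hodd (Subgroup.card_subgroup_dvd_card _)
              · rw [hTcard]
                exact Nat.Coprime.coprime_dvd_left (Subgroup.card_subgroup_dvd_card _) hcop
              · rintro _ ⟨x, hx, rfl⟩
                exact ⟨α x, hTinv x hx, rfl⟩ }
        have hne : ∃ c, α c ≠ c := by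
          refine ⟨⟨y₀, hy₀⟩, fun hh => hne₀ ?_⟩
          exact congrArg Subtype.val hh
        have hnt : Nontrivial Y := by
          refine ⟨⟨⟨y₀, hy₀⟩, 1, fun hh => hne₀ ?_⟩⟩
          have : y₀ = 1 := congrArg Subtype.val hh
          simp [this]
        have hD : commutator Y ≠ ⊤ := by
          have hsol : Group.IsSolvable Y := by
            have : Group.IsNilpotent Y := hpg.isNilpotent
            infer_instance
          exact (Group.IsSolvable.commutator_lt_top_of_nontrivial Y).ne
        by_cases hnon : commutator Y = ⊥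
        · refine hcore.abelian_case hne ?_ hp2
          intro x y
          have h1 := comm_mem_commutator x y
          rw [hnon, Subgroup.mem_bot] at h1
          calc x * y = (x * y * x⁻¹ * y⁻¹) * (y * x) := by group
            _ = y * x := by rw [h1, one_mul]
        · exact nonabelian_case_odd hcore hne hD hnon hp2 hodd
      · -- otherwise `R` is smaller, hence centralized
        have hlt : Nat.card R < n := by
          rw [hRcard, ← hcard]
          exact card_lt_of_ne_top hPtop
        have hRc : (Nat.card R).Coprime p := by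
          rw [hRcard]
          exact Nat.Coprime.coprime_dvd_left (Subgroup.card_subgroup_dvd_card _) hcop
        have hRo : Odd (Nat.card R) := by
          rw [hRcard]
          exact Odd.of_dvd_nat hodd (Subgroup.card_subgroup_dvd_card _)
        have hfix := ih _ hlt R rfl hRo hRc hRnorm
        have hle : (P : Subgroup Y) ≤ C₀ := by
          intro t ht
          rw [hmemC]
          exact hfix _ ⟨t, ht, rfl⟩
        have hdvd : C₀.index ∣ (P : Subgroup Y).index := Subgroup.index_dvd_of_le hle
        exact P.not_dvd_index ((Nat.minFac_dvd _).trans hdvd)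
  exact main _ Y rfl hodd hcop hnorm

end Cfsg.Agent.Lib.Solvable.QuadOdd
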