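import Mathlib
import Cfsg.Prelude.Def_SolvableStructure
import Cfsg.Agent.Lib.Solvable.Hall

set_option autoImplicit false

/-!
# Hall complement systems of finite solvable groups

Key lemma `exists_conj_of_sup_eq`: two complement systems of `G` with the same images modulo a
normal subgroup `N` are conjugate by an element of `N`.  Consequences: conjugacy of complement
systems, behaviour of system normalizers in quotients, nilpotency of system normalizers, and their
normal closure.
-/

namespace Cfsg.Agent.Lib.Solvable.HallSystem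

open Subgroup Cfsg.Agent.Lib.Solvable.Hall
open scoped commutatorElement

universe u

/-- A normal subgroup whose order is coprime to the index of `H` lies in `H`. -/
theorem le_of_coprime_index {G : Type*} [Group G] [Finite G] (N H : Subgroup G) [N.Normal]
    (h : (Nat.card N).Coprime H.index) : N ≤ H := by
  have h1 := card_sup_mul_card_inf H N
  have h2 : H.relIndex (H ⊔ N) * (H ⊔ N).index = H.index := relIndex_mul_index le_sup_left
  have h3 : Nat.card (H ⊔ N : Subgroup G) = Nat.card H * H.relIndex (H ⊔ N) := by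
    rw [← relIndex_bot_left H, ← relIndex_bot_left (H ⊔ N)]
    exact (relIndex_mul_relIndex ⊥ H (H ⊔ N) bot_le le_sup_left).symm
  rw [h3, mul_assoc] at h1
  have h4 : H.relIndex (H ⊔ N) * Nat.card (H ⊓ N : Subgroup G) = Nat.card N :=
    Nat.eq_of_mul_eq_mul_left Nat.card_pos h1
  have h5 : H.relIndex (H ⊔ N) = 1 := by
    exact Nat.Coprime.eq_one_of_dvd (Nat.Coprime.coprime_dvd_left ⟨_, h4.symm⟩ h) ⟨_, h2.symm⟩
  rw [h5, one_mul] at h4
  have h6 : H ⊓ N = N := eq_of_le_of_card_ge inf_le_right h4.symm.le
  exact inf_eq_right.mp h6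

/-- Every nontrivial normal subgroup of a finite solvable group contains a nontrivial normal
abelian subgroup of the whole group. -/
theorem exists_normal_commutative_le {G : Type*} [Group G] [Finite G] [Group.IsSolvable G] :
    ∀ (c : ℕ) (N : Subgroup G), Nat.card N = c → N.Normal → N ≠ ⊥ →
      ∃ B : Subgroup G, B ≤ N ∧ B.Normal ∧ B ≠ ⊥ ∧ ∀ x ∈ B, ∀ y ∈ B, x * y = y * x := by
  intro c
  induction c using Nat.strong_induction_on with
  | _ c ih =>
  intro N hc hN hbot
  by_cases hab : ⁅N, N⁆ = ⊥
  · refine ⟨N, le_rfl, hN, hbot, fun x hx y hy => ?_⟩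
    have : ⁅x, y⁆ ∈ (⊥ : Subgroup G) := by
      rw [← hab]
      exact commutator_mem_commutator hx hy
    rw [mem_bot, commutatorElement_eq_one_iff_mul_comm] at this
    exact this
  by_cases heq : ⁅N, N⁆ = N
  · exfalso
    obtain ⟨k, hk⟩ := (Group.isSolvable_def G).mp ‹_›
    have : ∀ j, N ≤ derivedSeries G j := by
      intro j
      induction j with
      | zero => exact le_top
      | succ j ih2 =>
        rw [derivedSeries_succ, ← heq]
        exact commutator_mono ih2 ih2
    apply hbot
    rw [eq_bot_iff, ← hk]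
    exact this k
  · have hle : ⁅N, N⁆ ≤ N := commutator_le_left N N
    have hlt : Nat.card (⁅N, N⁆ : Subgroup G) < c := by
      rw [← hc]
      exact lt_of_le_of_ne (Nat.card_le_card_of_injective _ (inclusion_injective hle))
        (fun h => heq (eq_of_le_of_card_ge hle h.symm.le))
    obtain ⟨B, hB, hBn, hBb, hBc⟩ := ih _ hlt ⁅N, N⁆ rfl inferInstance hab
    exact ⟨B, hB.trans hle, hBn, hBb, hBc⟩

/-- Every nontrivial normal subgroup of a finite solvable group contains a nontrivial normal
abelian `q`-subgroup of the whole group. -/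
theorem exists_normal_abelian_pSubgroup_le {G : Type*} [Group G] [Finite G] [Group.IsSolvable G]
    (N : Subgroup G) [hN : N.Normal] (hbot : N ≠ ⊥) :
    ∃ (q : ℕ) (A : Subgroup G), q.Prime ∧ A ≤ N ∧ A.Normal ∧ A ≠ ⊥ ∧ IsPGroup q A ∧
      IsMulCommutative A ∧ ∀ x ∈ A, x ^ q = 1 := by
  obtain ⟨B, hBN, hBn, hBb, hcomm⟩ := exists_normal_commutative_le _ N rfl hN hbot
  have hBcard : Nat.card B ≠ 1 := fun h1 => hBb (Subgroup.card_eq_one.mp h1)
  obtain ⟨p, hp, hpB⟩ := Nat.exists_prime_and_dvd hBcard
  have : Fact p.Prime := ⟨hp⟩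
  let A : Subgroup G :=
    { carrier := {x | x ∈ B ∧ x ^ p = 1}
      one_mem' := ⟨B.one_mem, one_pow p⟩
      mul_mem' := by
        rintro a b ⟨ha, ha'⟩ ⟨hb, hb'⟩
        refine ⟨B.mul_mem ha hb, ?_⟩
        rw [(show Commute a b from hcomm a ha b hb).mul_pow, ha', hb', one_mul]
      inv_mem' := by
        rintro a ⟨ha, ha'⟩
        exact ⟨B.inv_mem ha, by rw [inv_pow, ha', inv_one]⟩ }
  refine ⟨p, A, hp, fun x hx => hBN hx.1, ⟨?_⟩, ?_, ?_, ⟨⟨?_⟩⟩, fun x hx => hx.2⟩
  · rintro x ⟨hx, hx'⟩ g
    refine ⟨hBn.conj_mem x hx g, ?_⟩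
    rw [conj_pow, hx', mul_one, mul_inv_cancel]
  · obtain ⟨x, hx⟩ := exists_prime_orderOf_dvd_card' (G := B) p hpB
    intro hbot'
    have hx1 : (x : G) ∈ A := ⟨x.2, by
      have := pow_orderOf_eq_one x
      rw [hx] at this
      simpa using congrArg Subtype.val this⟩
    rw [hbot', mem_bot] at hx1
    have : x = 1 := Subtype.ext hx1
    rw [this, orderOf_one] at hx
    exact hp.one_lt.ne hx
  · intro x
    refine ⟨1, ?_⟩
    rw [pow_one]
    exact Subtype.ext x.2.2
  · rintro ⟨a, ha⟩ ⟨b, hb⟩
    exact Subtype.ext (hcomm a ha.1 b hb.1)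

/-- Two subgroups `X`, `Y` of order coprime to the order of the normal abelian subgroup `A`, with
`X ⊔ A = Y ⊔ A`, are conjugate by an element of `A`. -/
theorem exists_conj_of_sup_eq_of_abelian {G : Type*} [Group G] [Finite G] (A : Subgroup G)
    [A.Normal] (hA : IsMulCommutative A) (X Y : Subgroup G) (hXY : X ⊔ A = Y ⊔ A)
    (hX : (Nat.card X).Coprime (Nat.card A)) (hY : (Nat.card Y).Coprime (Nat.card A)) :
    ∃ a ∈ A, X.map (MulAut.conj a).toMonoidHom = Y := by
  set M := X ⊔ A with hM
  have hAM : A ≤ M := le_sup_right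
  have hXM : X ≤ M := le_sup_left
  have hYM : Y ≤ M := by rw [hXY]; exact le_sup_left
  have hXd : X ⊓ A = ⊥ := (disjoint_of_coprime_natCard hX).eq_bot
  have hYd : Y ⊓ A = ⊥ := (disjoint_of_coprime_natCard hY).eq_bot
  have h1 := card_sup_mul_card_inf X A
  rw [hXd, Subgroup.card_bot, mul_one, ← hM] at h1
  have h2 := card_sup_mul_card_inf Y A
  rw [hYd, Subgroup.card_bot, mul_one, ← hXY] at h2
  set A' := A.subgroupOf M with hA'
  have : A'.Normal := Subgroup.Normal.subgroupOf ‹_› M
  have : IsMulCommutative A' := by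
    refine ⟨⟨fun u v => ?_⟩⟩
    have hc : (⟨u.1.1, u.2⟩ : A) * ⟨v.1.1, v.2⟩ = ⟨v.1.1, v.2⟩ * ⟨u.1.1, u.2⟩ :=
      hA.is_comm.comm _ _
    have hc' : u.1.1 * v.1.1 = v.1.1 * u.1.1 := congrArg Subtype.val hc
    exact Subtype.ext (Subtype.ext hc')
  have hAc : Nat.card A' = Nat.card A := Nat.card_congr (subgroupOfEquivOfLe hAM).toEquiv
  have hXc : Nat.card (X.subgroupOf M) = Nat.card X := Nat.card_congr (subgroupOfEquivOfLe hXM).toEquiv
  have hYc : Nat.card (Y.subgroupOf M) = Nat.card Y := Nat.card_congr (subgroupOfEquivOfLe hYM).toEquiv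
  have hc1 : IsComplement' A' (X.subgroupOf M) := by
    apply isComplement'_of_coprime
    · rw [hAc, hXc, h1, mul_comm]
    · rw [hAc, hXc]
      exact hX.symm
  have hc2 : IsComplement' A' (Y.subgroupOf M) := by
    apply isComplement'_of_coprime
    · rw [hAc, hYc, h2, mul_comm]
    · rw [hAc, hYc]
      exact hY.symm
  have hAindex : A'.index = Nat.card X := by
    have h4 := card_mul_index A'
    have h5 := hc1.card_mul_card
    rw [hXc] at h5
    exact Nat.eq_of_mul_eq_mul_left Nat.card_pos (h4.trans h5.symm)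
  obtain ⟨u, huA, hu⟩ := exists_conj_of_isComplement' A'
    (by rw [hAindex, hAc]; exact hX.symm) _ _ hc1 hc2
  refine ⟨(u : G), huA, ?_⟩
  apply eq_of_le_of_card_ge
  · rintro _ ⟨x, hx, rfl⟩
    have hxM : x ∈ M := hXM hx
    have hmem : (MulAut.conj u).toMonoidHom (⟨x, hxM⟩ : M) ∈ Y.subgroupOf M := by
      rw [← hu]
      exact ⟨⟨x, hxM⟩, hx, rfl⟩
    exact hmem
  · have hcard : Nat.card Y = Nat.card X :=
      Nat.eq_of_mul_eq_mul_right Nat.card_pos (h2.symm.trans h1)
    rw [card_map_conj, hcard]

theorem map_conj_eq_self {G : Type*} [Group G] [Finite G] {H : Subgroup G} {a : G} (ha : a ∈ H) :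
    H.map (MulAut.conj a).toMonoidHom = H := by
  apply eq_of_le_of_card_ge
  · rintro _ ⟨x, hx, rfl⟩
    exact H.mul_mem (H.mul_mem ha hx) (H.inv_mem ha)
  · rw [card_map_conj]

theorem map_conj_map_conj {G : Type*} [Group G] (H : Subgroup G) (a b : G) :
    (H.map (MulAut.conj b).toMonoidHom).map (MulAut.conj a).toMonoidHom =
      H.map (MulAut.conj (a * b)).toMonoidHom := by
  rw [Subgroup.map_map]
  congr 1
  ext x
  simp [MulAut.conj_apply, mul_assoc]

theorem index_map_conj {G : Type*} [Group G] [Finite G] (H : Subgroup G) (g : G) :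
    (H.map (MulAut.conj g).toMonoidHom).index = H.index := by
  have h1 := card_mul_index H
  have h2 := card_mul_index (H.map (MulAut.conj g).toMonoidHom)
  rw [card_map_conj] at h2
  exact Nat.eq_of_mul_eq_mul_left Nat.card_pos (h2.trans h1.symm)

/-- Conjugates of a complement system form a complement system. -/
theorem isComplementSystem_conj {G : Type*} [Group G] [Finite G] {K : Nat.Primes → Subgroup G}
    (hK : Cfsg.IsComplementSystem K) (g : G) :
    Cfsg.IsComplementSystem (fun p => (K p).map (MulAut.conj g).toMonoidHom) := by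
  intro p
  rw [index_map_conj]
  exact hK p

/-- The members of a complement system have order prime to `p`. -/
theorem card_coprime {G : Type*} [Group G] [Finite G] {K : Nat.Primes → Subgroup G}
    (hK : Cfsg.IsComplementSystem K) (p : Nat.Primes) : (Nat.card (K p)).Coprime (p : ℕ) := by
  have hne : Nat.card G ≠ 0 := Nat.card_pos.ne'
  have h := card_mul_index (K p)
  rw [hK p] at h
  have h2 : Nat.card (K p) = Nat.card G / (p : ℕ) ^ (Nat.card G).factorization p :=
    Nat.eq_div_of_mul_eq_left (pow_ne_zero _ p.2.ne_zero) h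
  rw [h2]
  exact (Nat.coprime_ordCompl p.2 hne).symm

private theorem factorization_eq_of_eq {n c p b : ℕ} (hp : p.Prime) (hc : c.Coprime p)
    (hn : n = c * p ^ b) : n.factorization p = b := by
  have hc0 : c ≠ 0 := by
    rintro rfl
    rw [Nat.coprime_zero_left] at hc
    exact hp.one_lt.ne' hc
  rw [hn, Nat.factorization_mul hc0 (pow_ne_zero _ hp.ne_zero), Finsupp.add_apply,
    Nat.factorization_pow, Finsupp.smul_apply, hp.factorization_self, smul_eq_mul, mul_one,
    Nat.factorization_eq_zero_of_not_dvd, zero_add]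
  intro hd
  exact (Nat.Prime.coprime_iff_not_dvd hp).mp hc.symm hd

/-- The image of a complement system in a quotient is a complement system. -/
theorem isComplementSystem_map_mk {G : Type*} [Group G] [Finite G] {K : Nat.Primes → Subgroup G}
    (hK : Cfsg.IsComplementSystem K) (N : Subgroup G) [N.Normal] :
    Cfsg.IsComplementSystem (fun p => (K p).map (QuotientGroup.mk' N)) := by
  intro p
  have hdvd : ((K p).map (QuotientGroup.mk' N)).index ∣ (K p).index :=
    index_map_dvd _ (QuotientGroup.mk'_surjective N)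
  rw [hK p] at hdvd
  obtain ⟨b, -, hb⟩ := (Nat.dvd_prime_pow p.2).mp hdvd
  have h1 := card_mul_index ((K p).map (QuotientGroup.mk' N))
  rw [hb] at h1
  have hc : (Nat.card ((K p).map (QuotientGroup.mk' N))).Coprime (p : ℕ) :=
    Nat.Coprime.coprime_dvd_left (card_map_dvd _ _) (card_coprime hK p)
  have h2 := factorization_eq_of_eq p.2 hc h1.symm
  change ((K p).map (QuotientGroup.mk' N)).index = _
  rw [hb, h2]

/-- The abelian step of the key lemma. -/
theorem exists_conj_abelian {G : Type*} [Group G] [Finite G] (A : Subgroup G) [A.Normal]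
    (hAc : IsMulCommutative A) (q : ℕ) (hq : q.Prime) (hpA : IsPGroup q A)
    {K L : Nat.Primes → Subgroup G} (hK : Cfsg.IsComplementSystem K)
    (hL : Cfsg.IsComplementSystem L) (h : ∀ p, K p ⊔ A = L p ⊔ A) :
    ∃ a ∈ A, ∀ p, (K p).map (MulAut.conj a).toMonoidHom = L p := by
  have : Fact q.Prime := ⟨hq⟩
  obtain ⟨k, hk⟩ := IsPGroup.iff_card.mp hpA
  have hle : ∀ {M : Nat.Primes → Subgroup G}, Cfsg.IsComplementSystem M → ∀ p : Nat.Primes,
      (p : ℕ) ≠ q → A ≤ M p := by
    intro M hM p hpq
    apply le_of_coprime_index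
    rw [hM p, hk]
    exact Nat.coprime_pow_primes _ _ hq p.2 (Ne.symm hpq)
  let q' : Nat.Primes := ⟨q, hq⟩
  have hcq : ∀ {M : Nat.Primes → Subgroup G}, Cfsg.IsComplementSystem M →
      (Nat.card (M q')).Coprime (Nat.card A) := by
    intro M hM
    rw [hk]
    exact (card_coprime hM q').pow_right k
  obtain ⟨a, haA, ha⟩ := exists_conj_of_sup_eq_of_abelian A hAc (K q') (L q') (h q') (hcq hK) (hcq hL)
  refine ⟨a, haA, fun p => ?_⟩
  by_cases hp : (p : ℕ) = q
  · have : p = q' := Subtype.ext hp
    rw [this]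
    exact ha
  · have h1 := hle hK p hp
    have h2 := hle hL p hp
    have h3 := h p
    rw [sup_eq_left.mpr h1, sup_eq_left.mpr h2] at h3
    rw [map_conj_eq_self (h1 haA), h3]

/-- **Key lemma.** Two complement systems with the same images modulo a normal subgroup `N` are
conjugate by an element of `N`. -/
theorem exists_conj_of_sup_eq : ∀ (c : ℕ) (G : Type u) [Group G] [Finite G] [Group.IsSolvable G]
    (N : Subgroup G) [N.Normal], Nat.card N = c → ∀ (K L : Nat.Primes → Subgroup G),
    Cfsg.IsComplementSystem K → Cfsg.IsComplementSystem L → (∀ p, K p ⊔ N = L p ⊔ N) →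
    ∃ n ∈ N, ∀ p, (K p).map (MulAut.conj n).toMonoidHom = L p := by
  intro c
  induction c using Nat.strong_induction_on with
  | _ c ih =>
  intro G _ _ _ N _ hc K L hK hL h
  by_cases hbot : N = ⊥
  · subst hbot
    refine ⟨1, one_mem _, fun p => ?_⟩
    have h1 := h p
    rw [sup_bot_eq, sup_bot_eq] at h1
    rw [map_conj_eq_self (one_mem _), h1]
  obtain ⟨q, A, hq, hAN, hAn, hAb, hpA, hAc, -⟩ := exists_normal_abelian_pSubgroup_le N hbot
  have hAcard : 1 < Nat.card A := by
    apply lt_of_le_of_ne Nat.card_pos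
    exact fun h1 => hAb (Subgroup.card_eq_one.mp h1.symm)
  let f := QuotientGroup.mk' A
  have hNbar : Nat.card (N.map f) * Nat.card A = Nat.card N := by
    rw [card_map_mk_mul, sup_eq_left.mpr hAN]
  have hlt : Nat.card (N.map f) < c := by
    rw [← hc, ← hNbar]
    exact lt_mul_of_one_lt_right Nat.card_pos hAcard
  have hNn : (N.map f).Normal := Subgroup.Normal.map ‹_› f (QuotientGroup.mk'_surjective A)
  obtain ⟨nb, hnb, hnbK⟩ := ih _ hlt (G ⧸ A) (N.map f) rfl (fun p => (K p).map f)
    (fun p => (L p).map f) (isComplementSystem_map_mk hK A) (isComplementSystem_map_mk hL A)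
    (fun p => by rw [← Subgroup.map_sup, ← Subgroup.map_sup, h p])
  obtain ⟨n, hnN, rfl⟩ := hnb
  -- conjugate by `n` and apply the abelian step
  set K' : Nat.Primes → Subgroup G := fun p => (K p).map (MulAut.conj n).toMonoidHom with hK'
  have hK'sys := isComplementSystem_conj hK n
  have hsup : ∀ p, K' p ⊔ A = L p ⊔ A := by
    intro p
    have h1 := hnbK p
    have h2 : (K' p).map f = (L p).map f := by
      rw [← h1]
      simp only [K', Subgroup.map_map]
      congr 1
    have h3 := congrArg (Subgroup.comap f) h2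
    rwa [comap_map_eq, comap_map_eq, QuotientGroup.ker_mk'] at h3
  obtain ⟨a, haA, ha⟩ := exists_conj_abelian A hAc q hq hpA hK'sys hL hsup
  refine ⟨a * n, N.mul_mem (hAN haA) hnN, fun p => ?_⟩
  rw [← map_conj_map_conj]
  exact ha p

/-- Conjugacy of Hall complement systems of a finite solvable group. -/
theorem exists_conj {G : Type u} [Group G] [Finite G] [Group.IsSolvable G]
    {K L : Nat.Primes → Subgroup G} (hK : Cfsg.IsComplementSystem K)
    (hL : Cfsg.IsComplementSystem L) :
    ∃ g : G, ∀ p, (K p).map (MulAut.conj g).toMonoidHom = L p := by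
  obtain ⟨g, -, hg⟩ := exists_conj_of_sup_eq _ G (⊤ : Subgroup G) rfl K L hK hL
    (fun p => by rw [sup_top_eq, sup_top_eq])
  exact ⟨g, hg⟩

theorem mem_normalizer_iff_map_conj {G : Type*} [Group G] [Finite G] (H : Subgroup G) (g : G) :
    g ∈ normalizer (H : Set G) ↔ H.map (MulAut.conj g).toMonoidHom = H := by
  rw [mem_normalizer_iff]
  constructor
  · intro h
    apply eq_of_le_of_card_ge
    · rintro _ ⟨x, hx, rfl⟩
      exact (h x).mp hx
    · rw [card_map_conj]
  · intro h x
    constructor
    · intro hx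
      rw [← h]
      exact ⟨x, hx, rfl⟩
    · intro hx
      rw [← h] at hx
      obtain ⟨y, hy, hxy⟩ := hx
      have h2 : (MulAut.conj g) y = (MulAut.conj g) x := hxy
      have h3 := (MulAut.conj g).injective h2
      rwa [← h3]

/-- System normalizers in quotients: the image of the system normalizer is the system normalizer
of the image. -/
theorem systemNormalizer_map_mk {G : Type u} [Group G] [Finite G] [Group.IsSolvable G]
    {K : Nat.Primes → Subgroup G} (hK : Cfsg.IsComplementSystem K) (N : Subgroup G) [N.Normal] :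
    Cfsg.systemNormalizer (fun p => (K p).map (QuotientGroup.mk' N)) =
      (Cfsg.systemNormalizer K).map (QuotientGroup.mk' N) := by
  let f := QuotientGroup.mk' N
  apply le_antisymm
  · intro gb hgb
    obtain ⟨g, rfl⟩ := QuotientGroup.mk'_surjective N gb
    have hgb' : ∀ p : Nat.Primes, f g ∈ normalizer (((K p).map f : Subgroup (G ⧸ N)) : Set (G ⧸ N)) := by
      intro p
      have := (Subgroup.mem_iInf.mp hgb) p
      exact this
    have hsup : ∀ p, (K p).map (MulAut.conj g).toMonoidHom ⊔ N = K p ⊔ N := by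
      intro p
      have h1 := (mem_normalizer_iff_map_conj _ _).mp (hgb' p)
      have h2 : ((K p).map (MulAut.conj g).toMonoidHom).map f = (K p).map f := by
        rw [← h1]
        simp only [Subgroup.map_map]
        congr 1
      have h3 := congrArg (Subgroup.comap f) h2
      rwa [comap_map_eq, comap_map_eq, QuotientGroup.ker_mk'] at h3
    obtain ⟨n, hnN, hn⟩ := exists_conj_of_sup_eq _ G N rfl _ K (isComplementSystem_conj hK g) hK hsup
    refine ⟨n * g, ?_, ?_⟩
    · rw [SetLike.mem_coe, Cfsg.systemNormalizer, Subgroup.mem_iInf]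
      intro p
      rw [mem_normalizer_iff_map_conj, ← map_conj_map_conj]
      exact hn p
    · have : f n = 1 := (QuotientGroup.eq_one_iff n).mpr hnN
      change f (n * g) = f g
      rw [map_mul, this, one_mul]
  · rintro _ ⟨g, hg, rfl⟩
    rw [SetLike.mem_coe, Cfsg.systemNormalizer, Subgroup.mem_iInf] at hg
    rw [Cfsg.systemNormalizer, Subgroup.mem_iInf]
    intro p
    rw [mem_normalizer_iff_map_conj]
    have h := (mem_normalizer_iff_map_conj _ _).mp (hg p)
    conv_rhs => rw [← h]
    simp only [Subgroup.map_map]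
    congr 1

/-- An element normalizing `H` whose order is coprime to the index of `H` lies in `H`. -/
theorem mem_of_mem_normalizer_of_coprime {G : Type*} [Group G] [Finite G] (H : Subgroup G) {x : G}
    (hx : x ∈ normalizer (H : Set G)) (hc : (orderOf x).Coprime H.index) : x ∈ H := by
  set N := normalizer (H : Set G) with hN
  have hHN : H ≤ N := le_normalizer
  set H' := H.subgroupOf N with hH'
  have : H'.Normal := Subgroup.normal_in_normalizer
  set y : N := ⟨x, hx⟩ with hy
  let z : N ⧸ H' := (y : N ⧸ H')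
  have h1 : orderOf z ∣ orderOf x := by
    have h2 : orderOf y = orderOf x := Subgroup.orderOf_mk x hx
    rw [← h2]
    exact orderOf_map_dvd (QuotientGroup.mk' H') y
  have h3 : orderOf z ∣ Nat.card (N ⧸ H') := orderOf_dvd_natCard z
  have h4 : Nat.card (N ⧸ H') ∣ H.index := by
    have h5 : Nat.card (N ⧸ H') = H.relIndex N := rfl
    rw [h5]
    exact ⟨_, (relIndex_mul_index hHN).symm⟩
  have h6 : orderOf z = 1 := Nat.Coprime.eq_one_of_dvd
    (Nat.Coprime.coprime_dvd_left h1 hc) (h3.trans h4)
  have h7 : z = 1 := orderOf_eq_one_iff.mp h6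
  have h8 : y ∈ H' := (QuotientGroup.eq_one_iff y).mp h7
  exact h8

/-- The system normalizer of a complement system of a finite solvable group is nilpotent. -/
theorem systemNormalizer_isNilpotent {G : Type*} [Group G] [Finite G]
    {K : Nat.Primes → Subgroup G} (hK : Cfsg.IsComplementSystem K) :
    Group.IsNilpotent (Cfsg.systemNormalizer K) := by
  set D := Cfsg.systemNormalizer K with hD
  have hDmem : ∀ x ∈ D, ∀ p, x ∈ normalizer (K p : Set G) := by
    intro x hx p
    exact (Subgroup.mem_iInf.mp hx) p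
  -- all Sylow subgroups of `D` are normal
  have hsyl : ∀ (q : ℕ) [Fact q.Prime] (P : Sylow q D), (P : Subgroup D).Normal := by
    intro q _ P
    have hq : q.Prime := Fact.out
    -- the subgroup of `D` of elements lying in all `K p` with `p ≠ q`
    let Dq : Subgroup D := ⨅ p : {p : Nat.Primes // (p : ℕ) ≠ q}, (K p.1).comap D.subtype
    have hDqn : Dq.Normal := by
      refine ⟨fun x hx g => ?_⟩
      rw [Subgroup.mem_iInf] at hx ⊢
      intro p
      have h1 : (x : G) ∈ K p.1 := (hx p)
      have h2 := hDmem g g.2 p.1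
      exact (mem_normalizer_iff.mp h2 x).mp h1
    have hDqp : IsPGroup q Dq := by
      intro x
      have hx : ∀ p : Nat.Primes, (p : ℕ) ≠ q → ((x : D) : G) ∈ K p := by
        intro p hp
        exact (Subgroup.mem_iInf.mp x.2) ⟨p, hp⟩
      have hord : ∃ k, orderOf x = q ^ k := by
        have h1 : ∀ {r : ℕ}, r.Prime → r ∣ orderOf x → r = q := by
          intro r hr hrd
          by_contra hne
          have h2 : orderOf x = orderOf ((x : D) : G) := by
            rw [Subgroup.orderOf_coe, Subgroup.orderOf_coe]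
          rw [h2] at hrd
          have h3 := hx ⟨r, hr⟩ hne
          have h4 : orderOf ((x : D) : G) ∣ Nat.card (K ⟨r, hr⟩) :=
            Subgroup.orderOf_dvd_natCard (K ⟨r, hr⟩) h3
          have h5 := card_coprime hK ⟨r, hr⟩
          exact (Nat.Prime.coprime_iff_not_dvd hr).mp h5.symm (hrd.trans h4)
        have hx1 : orderOf x ≠ 0 := (isOfFinOrder_of_finite _).orderOf_pos.ne'
        exact ⟨_, Nat.eq_prime_pow_of_unique_prime_dvd hx1 h1⟩
      obtain ⟨k, hk⟩ := hord
      refine ⟨k, ?_⟩
      rw [← hk]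
      exact pow_orderOf_eq_one x
    have hPle : (P : Subgroup D) ≤ Dq := by
      intro x hx
      rw [Subgroup.mem_iInf]
      rintro ⟨p, hp⟩
      obtain ⟨k, hk⟩ := (IsPGroup.iff_orderOf.mp P.isPGroup') ⟨x, hx⟩
      have h1 : orderOf x = q ^ k := by rw [← hk]; exact (Subgroup.orderOf_mk x hx).symm
      have h2 : orderOf (x : G) = q ^ k := by rw [← h1, Subgroup.orderOf_coe]
      apply mem_of_mem_normalizer_of_coprime (K p) (hDmem x x.2 p)
      rw [h2, hK p]
      exact Nat.coprime_pow_primes _ _ hq p.2 (Ne.symm hp)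
    have hPeq : Dq = (P : Subgroup D) := P.is_maximal' hDqp hPle
    rw [← hPeq]
    exact hDqn
  exact ((Group.isNilpotent_of_finite_tfae (G := D)).out 0 3).mpr
    (fun p hp P => @hsyl p hp P)

/-- The normal closure of the system normalizer is the whole group. -/
theorem normalClosure_systemNormalizer {G : Type u} [Group G] [Finite G] [Group.IsSolvable G]
    {K : Nat.Primes → Subgroup G} (hK : Cfsg.IsComplementSystem K) :
    normalClosure ((Cfsg.systemNormalizer K : Subgroup G) : Set G) = ⊤ := by
  set D := Cfsg.systemNormalizer K with hD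
  set R := normalClosure ((D : Subgroup G) : Set G) with hR
  have hDR : D ≤ R := subset_normalClosure
  -- pass to `T = R ⊔ G'`
  set T := R ⊔ commutator G with hT
  have hTn : T.Normal := by
    have h1 : R.Normal := normalClosure_normal
    have h2 : (commutator G).Normal := inferInstance
    exact Subgroup.sup_normal R (commutator G)
  have hTcomm : ∀ x y : G ⧸ T, x * y = y * x := by
    intro x y
    obtain ⟨a, rfl⟩ := QuotientGroup.mk'_surjective T x
    obtain ⟨b, rfl⟩ := QuotientGroup.mk'_surjective T y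
    have hc : ⁅a, b⁆ ∈ T := (le_sup_right : commutator G ≤ T)
      (by rw [_root_.commutator_def]; exact commutator_mem_commutator (mem_top a) (mem_top b))
    have h1 : QuotientGroup.mk' T ⁅a, b⁆ = 1 := (QuotientGroup.eq_one_iff _).mpr hc
    rw [commutatorElement_def, map_mul, map_mul, map_mul, map_inv, map_inv] at h1
    exact mul_inv_eq_one.mp (by rw [← h1]; group)
  have hD1 : D.map (QuotientGroup.mk' T) = ⊥ := by
    rw [eq_bot_iff]
    rintro _ ⟨d, hd, rfl⟩
    rw [mem_bot]
    exact (QuotientGroup.eq_one_iff _).mpr ((le_sup_left : R ≤ T) (hDR hd))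
  have hsn := systemNormalizer_map_mk hK T
  have htop : Cfsg.systemNormalizer (fun p => (K p).map (QuotientGroup.mk' T)) = ⊤ := by
    rw [Cfsg.systemNormalizer, eq_top_iff]
    refine le_iInf fun p => ?_
    intro x _
    rw [mem_normalizer_iff]
    intro h
    have : x * h * x⁻¹ = h := by rw [hTcomm x h]; group
    rw [this]
  rw [← hD, hD1, htop] at hsn
  have hTtop : T = ⊤ := by
    by_contra hne
    have hnt : Nontrivial (G ⧸ T) := QuotientGroup.nontrivial_iff.mpr hne
    exact top_ne_bot hsn
  -- `G / R` is perfect and solvable, hence trivial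
  have hRn : R.Normal := normalClosure_normal
  by_contra hRtop
  have hnt : Nontrivial (G ⧸ R) := QuotientGroup.nontrivial_iff.mpr hRtop
  have hlt := Group.IsSolvable.commutator_lt_top_of_nontrivial (G ⧸ R)
  apply hlt.ne
  have hmap : (commutator G).map (QuotientGroup.mk' R) = commutator (G ⧸ R) := by
    rw [_root_.commutator_def, _root_.commutator_def, Subgroup.map_commutator,
      Subgroup.map_top_of_surjective _ (QuotientGroup.mk'_surjective R)]
  rw [← hmap]
  have h2 := congrArg (Subgroup.map (QuotientGroup.mk' R)) hTtop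
  rw [hT, Subgroup.map_sup, Subgroup.map_top_of_surjective _ (QuotientGroup.mk'_surjective R)] at h2
  have h3 : R.map (QuotientGroup.mk' R) = ⊥ := by
    rw [eq_bot_iff]
    rintro _ ⟨d, hd, rfl⟩
    rw [mem_bot]
    exact (QuotientGroup.eq_one_iff _).mpr hd
  rwa [h3, bot_sup_eq] at h2

end Cfsg.Agent.Lib.Solvable.HallSystem
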