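import Mathlib
import Cfsg.Prelude.Def_Solvable
import Cfsg.Agent.Lib.Char.FrobeniusKernel

/-!
# Frobenius structure modulo a normal subgroup, pulled back to the group

If `Z ⊴ G`, `Z ≤ D`, and `D ⊓ D^g ≤ Z` for `g ∉ D`, then `D/Z` is a Frobenius complement in `G/Z`
and the preimage `K` of the Frobenius kernel is a normal subgroup with `K ⊔ D = ⊤`, `K ⊓ D = Z`.
-/

namespace Cfsg.Agent.Lib.Solvable.FrobQuot

open Cfsg
open scoped Pointwise

universe u

variable {G : Type u} [Group G]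

theorem mem_conj_smul_iff' {H : Subgroup G} {g x : G} :
    g ∈ MulAut.conj x • H ↔ x⁻¹ * g * x ∈ H := by
  rw [Subgroup.mem_pointwise_smul_iff_inv_smul_mem]
  simp [MulAut.smul_def]

theorem isFrobeniusComplement_map (D Z : Subgroup G) [Z.Normal] (hZD : Z ≤ D) (hDZ : ¬ D ≤ Z)
    (hDtop : D ≠ ⊤) (hF : ∀ g : G, g ∉ D → D ⊓ (MulAut.conj g • D) ≤ Z) :
    IsFrobeniusComplement (D.map (QuotientGroup.mk' Z)) := by
  have hker : (QuotientGroup.mk' Z).ker = Z := QuotientGroup.ker_mk' Z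
  have hmem : ∀ g, QuotientGroup.mk' Z g ∈ D.map (QuotientGroup.mk' Z) ↔ g ∈ D := by
    intro g
    constructor
    · rintro ⟨d, hd, hdg⟩
      have : d⁻¹ * g ∈ Z := by
        rw [← hker, MonoidHom.mem_ker, map_mul, map_inv, ← hdg, inv_mul_cancel]
      have h2 := D.mul_mem hd (hZD this)
      simpa using h2
    · intro hg
      exact ⟨g, hg, rfl⟩
  refine ⟨?_, ?_, ?_⟩
  · intro hbot
    apply hDZ
    intro d hd
    have : QuotientGroup.mk' Z d ∈ D.map (QuotientGroup.mk' Z) := ⟨d, hd, rfl⟩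
    rw [hbot, Subgroup.mem_bot] at this
    rw [← hker, MonoidHom.mem_ker]
    exact this
  · intro htop
    apply hDtop
    rw [eq_top_iff]
    intro g _
    rw [← hmem, htop]
    trivial
  · intro gb hgb
    obtain ⟨g, rfl⟩ := QuotientGroup.mk'_surjective Z gb
    rw [hmem] at hgb
    rw [eq_bot_iff]
    rintro y ⟨hy1, hy2⟩
    obtain ⟨y, rfl⟩ := QuotientGroup.mk'_surjective Z y
    have hy2' : (QuotientGroup.mk' Z g)⁻¹ * QuotientGroup.mk' Z y * QuotientGroup.mk' Z g ∈
        D.map (QuotientGroup.mk' Z) := mem_conj_smul_iff'.mp hy2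
    simp only [← map_inv, ← map_mul] at hy2'
    rw [hmem] at hy2'
    have hy1' := (hmem y).mp hy1
    have : y ∈ D ⊓ (MulAut.conj g • D) := ⟨hy1', mem_conj_smul_iff'.mpr hy2'⟩
    have h3 := hF g hgb this
    rw [Subgroup.mem_bot]
    rw [← hker, MonoidHom.mem_ker] at h3
    exact h3

/-- Frobenius kernel pulled back to `G`. -/
theorem exists_kernel [Finite G] (D Z : Subgroup G) [Z.Normal] (hZD : Z ≤ D) (hDZ : ¬ D ≤ Z)
    (hDtop : D ≠ ⊤) (hF : ∀ g : G, g ∉ D → D ⊓ (MulAut.conj g • D) ≤ Z) :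
    ∃ K : Subgroup G, K.Normal ∧ Z ≤ K ∧ K ⊓ D = Z ∧ K ⊔ D = ⊤ ∧
      ∀ k ∈ K, k ∉ Z → ∀ g : G, k ∉ MulAut.conj g • D := by
  have hFr := isFrobeniusComplement_map D Z hZD hDZ hDtop hF
  obtain ⟨N, hN, hNn, hNc⟩ := Cfsg.Agent.Lib.Char.FrobeniusKernel.frobenius_theorem _ hFr
  have hker : (QuotientGroup.mk' Z).ker = Z := QuotientGroup.ker_mk' Z
  have hcomap : (D.map (QuotientGroup.mk' Z)).comap (QuotientGroup.mk' Z) = D := by
    rw [Subgroup.comap_map_eq, hker, sup_eq_left.mpr hZD]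
  refine ⟨N.comap (QuotientGroup.mk' Z), hNn.comap _, ?_, ?_, ?_, ?_⟩
  · intro z hz
    rw [Subgroup.mem_comap]
    have : QuotientGroup.mk' Z z = 1 := by
      rw [← MonoidHom.mem_ker, hker]; exact hz
    rw [this]; exact N.one_mem
  · apply le_antisymm
    · rintro k ⟨hk1, hk2⟩
      have hdisj := hNc.disjoint
      have h1 : QuotientGroup.mk' Z k ∈ N := hk1
      have h2 : QuotientGroup.mk' Z k ∈ D.map (QuotientGroup.mk' Z) := ⟨k, hk2, rfl⟩
      have h3 := (Subgroup.disjoint_def.mp hdisj) h1 h2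
      rw [← hker, MonoidHom.mem_ker]; exact h3
    · intro z hz
      have : QuotientGroup.mk' Z z = 1 := by
        rw [← MonoidHom.mem_ker, hker]; exact hz
      refine Subgroup.mem_inf.mpr ⟨?_, hZD hz⟩
      rw [Subgroup.mem_comap, this]; exact N.one_mem
  · have h1 := hNc.sup_eq_top
    have h2 : (N.comap (QuotientGroup.mk' Z) ⊔ D).map (QuotientGroup.mk' Z) = ⊤ := by
      rw [Subgroup.map_sup, Subgroup.map_comap_eq_self_of_surjective (QuotientGroup.mk'_surjective Z)]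
      exact h1
    have h3 := congrArg (Subgroup.comap (QuotientGroup.mk' Z)) h2
    rw [Subgroup.comap_map_eq, hker, sup_eq_left.mpr, Subgroup.comap_top] at h3
    · exact h3
    · intro z hz
      refine Subgroup.mem_sup_right (hZD hz)
  · intro k hk hkZ g hg
    have hk' : QuotientGroup.mk' Z k ∈ (N : Set (G ⧸ Z)) := hk
    rw [hN] at hk'
    have hne : QuotientGroup.mk' Z k ≠ 1 := by
      intro h1
      apply hkZ
      rw [← hker, MonoidHom.mem_ker]; exact h1
    rcases hk' with h | h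
    · exact hne h
    · apply h (QuotientGroup.mk' Z g)
      rw [mem_conj_smul_iff']
      rw [mem_conj_smul_iff'] at hg
      simp only [← map_inv, ← map_mul]
      exact ⟨_, hg, rfl⟩

/-- Frobenius kernel pulled back to `G`, with both inclusions of the kernel description. -/
theorem exists_kernel' [Finite G] (D Z : Subgroup G) [Z.Normal] (hZD : Z ≤ D) (hDZ : ¬ D ≤ Z)
    (hDtop : D ≠ ⊤) (hF : ∀ g : G, g ∉ D → D ⊓ (MulAut.conj g • D) ≤ Z) :
    ∃ K : Subgroup G, K.Normal ∧ Z ≤ K ∧ K ⊓ D = Z ∧ K ⊔ D = ⊤ ∧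
      (∀ k ∈ K, k ∉ Z → ∀ g : G, k ∉ MulAut.conj g • D) ∧
      (∀ w : G, w ∉ K → ∃ g : G, w ∈ MulAut.conj g • D) := by
  have hFr := isFrobeniusComplement_map D Z hZD hDZ hDtop hF
  obtain ⟨N, hN, hNn, hNc⟩ := Cfsg.Agent.Lib.Char.FrobeniusKernel.frobenius_theorem _ hFr
  have hker : (QuotientGroup.mk' Z).ker = Z := QuotientGroup.ker_mk' Z
  refine ⟨N.comap (QuotientGroup.mk' Z), hNn.comap _, ?_, ?_, ?_, ?_, ?_⟩
  · intro z hz
    rw [Subgroup.mem_comap]
    have : QuotientGroup.mk' Z z = 1 := by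
      rw [← MonoidHom.mem_ker, hker]; exact hz
    rw [this]; exact N.one_mem
  · apply le_antisymm
    · rintro k ⟨hk1, hk2⟩
      have hdisj := hNc.disjoint
      have h1 : QuotientGroup.mk' Z k ∈ N := hk1
      have h2 : QuotientGroup.mk' Z k ∈ D.map (QuotientGroup.mk' Z) := ⟨k, hk2, rfl⟩
      have h3 := (Subgroup.disjoint_def.mp hdisj) h1 h2
      rw [← hker, MonoidHom.mem_ker]; exact h3
    · intro z hz
      have : QuotientGroup.mk' Z z = 1 := by
        rw [← MonoidHom.mem_ker, hker]; exact hz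
      refine Subgroup.mem_inf.mpr ⟨?_, hZD hz⟩
      rw [Subgroup.mem_comap, this]; exact N.one_mem
  · have h1 := hNc.sup_eq_top
    have h2 : (N.comap (QuotientGroup.mk' Z) ⊔ D).map (QuotientGroup.mk' Z) = ⊤ := by
      rw [Subgroup.map_sup, Subgroup.map_comap_eq_self_of_surjective (QuotientGroup.mk'_surjective Z)]
      exact h1
    have h3 := congrArg (Subgroup.comap (QuotientGroup.mk' Z)) h2
    rw [Subgroup.comap_map_eq, hker, sup_eq_left.mpr, Subgroup.comap_top] at h3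
    · exact h3
    · intro z hz
      refine Subgroup.mem_sup_right (hZD hz)
  · intro k hk hkZ g hg
    have hk' : QuotientGroup.mk' Z k ∈ (N : Set (G ⧸ Z)) := hk
    rw [hN] at hk'
    have hne : QuotientGroup.mk' Z k ≠ 1 := by
      intro h1
      apply hkZ
      rw [← hker, MonoidHom.mem_ker]; exact h1
    rcases hk' with h | h
    · exact hne h
    · apply h (QuotientGroup.mk' Z g)
      rw [mem_conj_smul_iff']
      rw [mem_conj_smul_iff'] at hg
      simp only [← map_inv, ← map_mul]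
      exact ⟨_, hg, rfl⟩
  · intro w hw
    have hw' : QuotientGroup.mk' Z w ∉ (N : Set (G ⧸ Z)) := hw
    rw [hN] at hw'
    have h2 : ¬ (QuotientGroup.mk' Z w = 1 ∨ ∀ g : G ⧸ Z, QuotientGroup.mk' Z w ∉ MulAut.conj g • D.map (QuotientGroup.mk' Z)) := hw'
    push Not at h2
    obtain ⟨g, hg⟩ := h2.2
    obtain ⟨g, rfl⟩ := QuotientGroup.mk'_surjective Z g
    refine ⟨g, ?_⟩
    rw [mem_conj_smul_iff'] at hg ⊢
    simp only [← map_inv, ← map_mul] at hg
    obtain ⟨d, hd, hde⟩ := hg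
    have : d⁻¹ * (g⁻¹ * w * g) ∈ Z := by
      rw [← hker, MonoidHom.mem_ker, map_mul, map_inv, hde, inv_mul_cancel]
    have h3 := D.mul_mem hd (hZD this)
    simpa using h3

end Cfsg.Agent.Lib.Solvable.FrobQuot
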