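import Cfsg.Agent.S3904
import Cfsg.Agent.S4345

/-!
# Class sizes: products of classes of coprime sizes
-/

set_option autoImplicit false
set_option linter.unusedSectionVars false
open scoped Pointwise

namespace Cfsg.Agent.Lib.Solvable.CoprimeClass

open Cfsg.Agent.S3904 (mem_C mem_C_comm mem_of_primary_powers conj_smul_C conj_notMem_center)
open Cfsg.Agent

section General

variable {G : Type*} [Group G] [Finite G]

local notation "C" x => Subgroup.centralizer ({x} : Set G)

theorem index_C_conj (g x : G) : (C (g * x * g⁻¹)).index = (C x).index := by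
  rw [← conj_smul_C, Subgroup.pointwise_smul_def]
  exact Subgroup.index_map_of_bijective (MulAut.conj g).bijective _

theorem orderOf_conj' (g x : G) : orderOf (g * x * g⁻¹) = orderOf x :=
  MulEquiv.orderOf_eq (MulAut.conj g) x

theorem index_C_le_of_mem {u a : G} (ha : a ∈ Subgroup.zpowers u) : (C a).index ∣ (C u).index :=
  Subgroup.index_dvd_of_le (S4314.C_le_of_mem_zpowers ha)

theorem index_inf_eq {a b : G} (hc : (C a).index.Coprime (C b).index) :
    ((C a) ⊓ (C b)).index = (C a).index * (C b).index := by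
  apply le_antisymm Subgroup.index_inf_le
  apply Nat.le_of_dvd (Nat.pos_of_ne_zero Subgroup.index_ne_zero_of_finite)
  exact Nat.Coprime.mul_dvd_of_dvd_of_dvd hc (Subgroup.index_dvd_of_le inf_le_left)
    (Subgroup.index_dvd_of_le inf_le_right)

/-- Simultaneous conjugation for coprime class sizes. -/
theorem exists_common {a b : G} (hc : (C a).index.Coprime (C b).index) (g h : G) :
    ∃ c : G, c * a * c⁻¹ = g * a * g⁻¹ ∧ c * b * c⁻¹ = h * b * h⁻¹ := by
  set D := (C a) ⊓ (C b) with hD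
  let Θ : G ⧸ D → (G ⧸ (C a)) × (G ⧸ (C b)) :=
    fun q => ((Quotient.out q : G), (Quotient.out q : G))
  have hinj : Function.Injective Θ := by
    intro q₁ q₂ h12
    have h1 := (Prod.ext_iff.mp h12).1
    have h2 := (Prod.ext_iff.mp h12).2
    rw [← QuotientGroup.out_eq' q₁, ← QuotientGroup.out_eq' q₂]
    rw [QuotientGroup.eq]
    exact ⟨QuotientGroup.eq.mp h1, QuotientGroup.eq.mp h2⟩
  have hbij := hinj.bijective_of_nat_card_le (by
    rw [Nat.card_prod]
    have : Nat.card (G ⧸ D) = D.index := rfl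
    rw [this, hD, index_inf_eq hc]
    exact le_of_eq rfl)
  obtain ⟨q, hq⟩ := hbij.2 ((g : G ⧸ (C a)), (h : G ⧸ (C b)))
  have h1 : ((Quotient.out q : G) : G ⧸ (C a)) = (g : G ⧸ (C a)) := (Prod.ext_iff.mp hq).1
  have h2 : ((Quotient.out q : G) : G ⧸ (C b)) = (h : G ⧸ (C b)) := (Prod.ext_iff.mp hq).2
  have h3 := mem_C.mp (QuotientGroup.eq.mp h1)
  have h4 := mem_C.mp (QuotientGroup.eq.mp h2)
  refine ⟨Quotient.out q, ?_, ?_⟩
  · set c := (Quotient.out q : G)
    calc c * a * c⁻¹ = g * ((g⁻¹ * c) * a) * c⁻¹ := by group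
      _ = g * (g⁻¹ * c)⁻¹⁻¹ * a * c⁻¹ := by group
      _ = g * a * g⁻¹ := ?_
    have h5 : (c⁻¹ * g) * a = a * (c⁻¹ * g) := h3
    calc g * (g⁻¹ * c)⁻¹⁻¹ * a * c⁻¹ = c * a * c⁻¹ := by group
      _ = c * (a * (c⁻¹ * g)) * g⁻¹ := by group
      _ = c * ((c⁻¹ * g) * a) * g⁻¹ := by rw [h5]
      _ = g * a * g⁻¹ := by group
  · set c := (Quotient.out q : G)
    have h5 : (c⁻¹ * h) * b = b * (c⁻¹ * h) := h4
    calc c * b * c⁻¹ = c * (b * (c⁻¹ * h)) * h⁻¹ := by group
      _ = c * ((c⁻¹ * h) * b) * h⁻¹ := by rw [h5]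
      _ = h * b * h⁻¹ := by group

/-- The class of `b` as a set. -/
def cl (b : G) : Set G := Set.range (fun c : G => c * b * c⁻¹)

theorem mem_cl {b y : G} : y ∈ cl b ↔ ∃ c : G, c * b * c⁻¹ = y := Iff.rfl

theorem card_cl (b : G) : Nat.card (cl b) = (C b).index := by
  let f : G ⧸ (C b) → cl b := fun q => ⟨(Quotient.out q : G) * b * (Quotient.out q : G)⁻¹, ⟨_, rfl⟩⟩
  have hinj : Function.Injective f := by
    intro q₁ q₂ h12
    have h := congrArg Subtype.val h12
    simp only [f] at h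
    rw [← QuotientGroup.out_eq' q₁, ← QuotientGroup.out_eq' q₂, QuotientGroup.eq, mem_C]
    set c₁ := (Quotient.out q₁ : G)
    set c₂ := (Quotient.out q₂ : G)
    calc c₁⁻¹ * c₂ * b = c₁⁻¹ * (c₂ * b * c₂⁻¹) * c₂ := by group
      _ = c₁⁻¹ * (c₁ * b * c₁⁻¹) * c₂ := by rw [h]
      _ = b * (c₁⁻¹ * c₂) := by group
  have hsurj : Function.Surjective f := by
    rintro ⟨y, c, rfl⟩
    refine ⟨(c : G ⧸ (C b)), Subtype.ext ?_⟩
    simp only [f]
    have h3 : ((Quotient.out (c : G ⧸ (C b)) : G) : G ⧸ (C b)) = (c : G ⧸ (C b)) := QuotientGroup.out_eq' _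
    have h4 := mem_C.mp (QuotientGroup.eq.mp h3)
    set c₁ := (Quotient.out (c : G ⧸ (C b)) : G)
    have h5 : (c₁⁻¹ * c) * b = b * (c₁⁻¹ * c) := h4
    calc c₁ * b * c₁⁻¹ = c₁ * (b * (c₁⁻¹ * c)) * c⁻¹ := by group
      _ = c₁ * ((c₁⁻¹ * c) * b) * c⁻¹ := by rw [h5]
      _ = c * b * c⁻¹ := by group
  have := Nat.card_congr (Equiv.ofBijective f ⟨hinj, hsurj⟩)
  exact this.symm

/-- The order of a subgroup acting on a set by left multiplication divides the size of the set. -/
theorem card_dvd_of_stable (K : Subgroup G) (X : Set G) (h : ∀ k ∈ K, ∀ x ∈ X, k * x ∈ X) :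
    Nat.card K ∣ Nat.card X := by
  classical
  cases nonempty_fintype G
  -- the cosets `K x`
  let E := Quotient (QuotientGroup.rightRel K)
  let q : X → E := fun x => Quotient.mk _ x.1
  have hfib : ∀ e : E, e ∈ Set.range q → Nat.card {x : X // q x = e} = Nat.card K := by
    rintro e ⟨x₀, rfl⟩
    symm
    apply Nat.card_congr
    refine ⟨fun k => ⟨⟨k.1 * x₀.1, h k.1 k.2 _ x₀.2⟩, ?_⟩, fun y => ⟨y.1.1 * x₀.1⁻¹, ?_⟩, ?_, ?_⟩
    · apply Quotient.sound
      change QuotientGroup.rightRel K _ _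
      rw [QuotientGroup.rightRel_apply]
      simpa using K.inv_mem k.2
    · have h2 := Quotient.exact y.2
      change QuotientGroup.rightRel K _ _ at h2
      rw [QuotientGroup.rightRel_apply] at h2
      have h3 := K.inv_mem h2
      simpa using h3
    · intro k
      apply Subtype.ext
      simp
    · intro y
      apply Subtype.ext
      apply Subtype.ext
      simp
  have hsum : Nat.card X = (Nat.card (Set.range q)) * Nat.card K := by
    rw [← Nat.card_congr (Equiv.sigmaFiberEquiv (fun x : X => (⟨q x, ⟨x, rfl⟩⟩ : Set.range q)))]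
    rw [Nat.card_sigma]
    rw [Finset.sum_congr rfl (g := fun _ => Nat.card K)]
    · rw [Finset.sum_const, Finset.card_univ, smul_eq_mul]
      congr 1
      exact Nat.card_eq_fintype_card.symm
    · rintro ⟨e, he⟩ -
      rw [← hfib e he]
      apply Nat.card_congr
      exact Equiv.subtypeEquivRight (fun x => by simp [Subtype.ext_iff])
  rw [hsum]
  exact Dvd.intro_left _ rfl

/-- The class-product lemma: if the class sizes of `a`, `b` are coprime and `a * b` has the class
size of `b`, then the stabilizer of the class of `b` is a normal subgroup of order dividing this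
class size, it contains all `a⁻¹ * a ^ g`, and centralizes `a`. -/
theorem class_product {a b : G} (hc : (C a).index.Coprime (C b).index)
    (hs : (C (a * b)).index = (C b).index) :
    ∃ K : Subgroup G, K.Normal ∧ (∀ g : G, a⁻¹ * (g * a * g⁻¹) ∈ K) ∧ Nat.card K ∣ (C b).index ∧
      K ≤ (C a) ∧ ∀ k ∈ K, ∀ x ∈ cl b, k * x ∈ cl b := by
  -- the stabilizer
  have hpowstable : ∀ k : G, (∀ x ∈ cl b, k * x ∈ cl b) → ∀ j : ℕ, ∀ x ∈ cl b, k ^ j * x ∈ cl b := by
    intro k hk j
    induction j with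
    | zero => intro x hx; simpa using hx
    | succ j ih =>
      intro x hx
      rw [pow_succ, mul_assoc]
      exact ih _ (hk x hx)
  let K : Subgroup G :=
    { carrier := {k | ∀ x ∈ cl b, k * x ∈ cl b}
      mul_mem' := by
        intro k₁ k₂ h1 h2 x hx
        rw [mul_assoc]
        exact h1 _ (h2 _ hx)
      one_mem' := by
        intro x hx
        simpa using hx
      inv_mem' := by
        intro k hk x hx
        have h1 := hpowstable k hk (orderOf k - 1) x hx
        have h2 : k⁻¹ = k ^ (orderOf k - 1) := by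
          apply eq_comm.mp
          apply eq_inv_of_mul_eq_one_left
          rw [← pow_succ, Nat.sub_add_cancel (orderOf_pos k), pow_orderOf_eq_one]
        rw [h2]; exact h1 }
  have hKmem : ∀ k, k ∈ K ↔ ∀ x ∈ cl b, k * x ∈ cl b := fun _ => Iff.rfl
  have hconjcl : ∀ (u : G), ∀ x ∈ cl b, u * x * u⁻¹ ∈ cl b := by
    rintro u x ⟨c, rfl⟩
    refine ⟨u * c, ?_⟩
    simp only [mul_inv_rev]
    group
  have hKn : K.Normal := by
    constructor
    intro k hk u
    rw [hKmem] at hk ⊢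
    intro x hx
    have h1 := hk _ (hconjcl u⁻¹ x hx)
    have h2 := hconjcl u _ h1
    have h3 : u * (k * (u⁻¹ * x * u⁻¹⁻¹)) * u⁻¹ = u * k * u⁻¹ * x := by group
    rwa [h3] at h2
  -- `a • cl b` is the class of `a * b`
  have hsub : (fun x => a * x) '' (cl b) ⊆ cl (a * b) := by
    rintro _ ⟨x, ⟨h, rfl⟩, rfl⟩
    obtain ⟨c, hc1, hc2⟩ := exists_common hc 1 h
    refine ⟨c, ?_⟩
    simp only [one_mul, inv_one, mul_one] at hc1
    calc c * (a * b) * c⁻¹ = (c * a * c⁻¹) * (c * b * c⁻¹) := by group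
      _ = a * (h * b * h⁻¹) := by rw [hc1, hc2]
  have hcard : ((fun x => a * x) '' (cl b)).ncard = (cl (a * b)).ncard := by
    rw [Set.ncard_image_of_injective _ (mul_right_injective a), ← Nat.card_coe_set_eq,
      ← Nat.card_coe_set_eq, card_cl, card_cl, hs]
  have heq : (fun x => a * x) '' (cl b) = cl (a * b) :=
    Set.eq_of_subset_of_ncard_le hsub hcard.ge (Set.toFinite _)
  have hmemK : ∀ g : G, a⁻¹ * (g * a * g⁻¹) ∈ K := by
    intro g
    rw [hKmem]
    rintro x ⟨h, rfl⟩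
    obtain ⟨c, hc1, hc2⟩ := exists_common hc g h
    have h1 : (g * a * g⁻¹) * (h * b * h⁻¹) ∈ cl (a * b) := by
      refine ⟨c, ?_⟩
      calc c * (a * b) * c⁻¹ = (c * a * c⁻¹) * (c * b * c⁻¹) := by group
        _ = _ := by rw [hc1, hc2]
    rw [← heq] at h1
    obtain ⟨y, hy, hye⟩ := h1
    simp only at hye
    have : a⁻¹ * (g * a * g⁻¹) * (h * b * h⁻¹) = y := by
      calc a⁻¹ * (g * a * g⁻¹) * (h * b * h⁻¹) = a⁻¹ * ((g * a * g⁻¹) * (h * b * h⁻¹)) := by group
        _ = a⁻¹ * (a * y) := by rw [hye]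
        _ = y := by group
    show _ ∈ cl b
    rw [this]; exact hy
  have hKcard : Nat.card K ∣ (C b).index := by
    rw [← card_cl]
    exact card_dvd_of_stable K _ (fun k hk x hx => (hKmem k).mp hk x hx)
  refine ⟨K, hKn, hmemK, hKcard, ?_, fun k hk => (hKmem k).mp hk⟩
  -- `K` centralizes `a`
  haveI := hKn
  have h1 : (C a).relIndex ((C a) ⊔ K) = (C a).relIndex K := S4345.relIndex_sup_of_normal _ _
  have h2 : (C a).relIndex K ∣ Nat.card K := Subgroup.relIndex_dvd_card _ _
  have h3 : (C a).relIndex K ∣ (C a).index := by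
    rw [← h1]
    exact Dvd.intro _ (Subgroup.relIndex_mul_index le_sup_left)
  have h4 : (Nat.card K).Coprime (C a).index := Nat.Coprime.coprime_dvd_left hKcard hc.symm
  have h5 := Nat.eq_one_of_dvd_coprimes h4 h2 h3
  exact Subgroup.relIndex_eq_one.mp h5


theorem eq_of_le_of_index_le {H K : Subgroup G} (hle : H ≤ K) (hi : H.index ≤ K.index) : H = K := by
  apply le_antisymm hle
  have h1 : H.relIndex K * K.index = H.index := Subgroup.relIndex_mul_index hle
  have h2 : 0 < K.index := Nat.pos_of_ne_zero Subgroup.index_ne_zero_of_finite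
  have h3 : 0 < H.index := Nat.pos_of_ne_zero Subgroup.index_ne_zero_of_finite
  have h4 : H.relIndex K ≠ 0 := by
    intro h0
    rw [h0, zero_mul] at h1
    omega
  have h5 : H.relIndex K = 1 := by
    have h6 : 0 < H.relIndex K := Nat.pos_of_ne_zero h4
    by_contra hne
    have h7 : 2 ≤ H.relIndex K := by omega
    have h8 : 2 * K.index ≤ H.relIndex K * K.index := Nat.mul_le_mul_right _ h7
    omega
  exact Subgroup.relIndex_eq_one.mp h5

/-- Commuting elements of coprime orders lie in the cyclic group generated by their product. -/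
theorem mem_zpowers_mul {u v : G} (huv : Commute u v) (hcop : (orderOf u).Coprime (orderOf v)) :
    u ∈ Subgroup.zpowers (u * v) ∧ v ∈ Subgroup.zpowers (u * v) := by
  have hcopz : IsCoprime ((orderOf u : ℕ) : ℤ) ((orderOf v : ℕ) : ℤ) := Nat.isCoprime_iff_coprime.mpr hcop
  obtain ⟨s, t, hst⟩ := hcopz
  have hu1 : u ^ (s * (orderOf u : ℤ)) = 1 := by
    rw [mul_comm, zpow_mul, zpow_natCast, pow_orderOf_eq_one, one_zpow]
  have hv1 : v ^ (t * (orderOf v : ℤ)) = 1 := by
    rw [mul_comm, zpow_mul, zpow_natCast, pow_orderOf_eq_one, one_zpow]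
  constructor
  · have e : (u * v) ^ (t * (orderOf v : ℤ)) = u := by
      rw [huv.mul_zpow, hv1, mul_one]
      have : t * (orderOf v : ℤ) = 1 - s * (orderOf u : ℤ) := by linarith
      rw [this, zpow_sub, zpow_one, hu1, inv_one, mul_one]
    have h3 := Subgroup.zpow_mem_zpowers (u * v) (t * (orderOf v : ℤ))
    rwa [e] at h3
  · have e : (u * v) ^ (s * (orderOf u : ℤ)) = v := by
      rw [huv.mul_zpow, hu1, one_mul]
      have : s * (orderOf u : ℤ) = 1 - t * (orderOf v : ℤ) := by linarith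
      rw [this, zpow_sub, zpow_one, hv1, inv_one, mul_one]
    have h3 := Subgroup.zpow_mem_zpowers (u * v) (s * (orderOf u : ℤ))
    rwa [e] at h3

theorem C_mul_eq {u v : G} (huv : Commute u v) (hcop : (orderOf u).Coprime (orderOf v)) :
    (C (u * v)) = (C u) ⊓ (C v) := by
  obtain ⟨h1, h2⟩ := mem_zpowers_mul huv hcop
  apply le_antisymm
  · exact le_inf (S4314.C_le_of_mem_zpowers h1) (S4314.C_le_of_mem_zpowers h2)
  · intro g hg
    have hg1 := mem_C.mp (Subgroup.mem_inf.mp hg).1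
    have hg2 := mem_C.mp (Subgroup.mem_inf.mp hg).2
    rw [mem_C]
    calc g * (u * v) = (g * u) * v := by group
      _ = u * (g * v) := by rw [hg1]; group
      _ = u * (v * g) := by rw [hg2]
      _ = u * v * g := by group

theorem mul_image_subset {a b : G} (hc : (C a).index.Coprime (C b).index) :
    (fun x => a * x) '' (cl b) ⊆ cl (a * b) := by
  rintro _ ⟨x, ⟨h, rfl⟩, rfl⟩
  obtain ⟨c, hc1, hc2⟩ := exists_common hc 1 h
  refine ⟨c, ?_⟩
  simp only [one_mul, inv_one, mul_one] at hc1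
  calc c * (a * b) * c⁻¹ = (c * a * c⁻¹) * (c * b * c⁻¹) := by group
    _ = a * (h * b * h⁻¹) := by rw [hc1, hc2]

theorem index_le_mul {a b : G} (hc : (C a).index.Coprime (C b).index) :
    (C b).index ≤ (C (a * b)).index := by
  have h1 := Set.ncard_le_ncard (mul_image_subset hc) (Set.toFinite _)
  rw [Set.ncard_image_of_injective _ (mul_right_injective a), ← Nat.card_coe_set_eq,
      ← Nat.card_coe_set_eq, card_cl, card_cl] at h1
  exact h1

/-- `a` is central when its order is coprime to the size of the class of `b`. -/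
theorem central_of_class_product {a b : G} (hc : (C a).index.Coprime (C b).index)
    (hs : (C (a * b)).index = (C b).index) (ho : (orderOf a).Coprime (C b).index) :
    a ∈ Subgroup.center G := by
  obtain ⟨K, -, hK1, hK2, hK3, -⟩ := class_product hc hs
  rw [Subgroup.mem_center_iff]
  intro g
  set k := a⁻¹ * (g * a * g⁻¹) with hk
  have hkK : k ∈ K := hK1 g
  have hkC : k * a = a * k := mem_C.mp (hK3 hkK)
  have hc2 : Commute a k := hkC.symm
  have e1 : g * a * g⁻¹ = a * k := by rw [hk]; group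
  have e2 : (g * a * g⁻¹) ^ orderOf a = 1 := by
    rw [conj_pow, pow_orderOf_eq_one]; group
  rw [e1, hc2.mul_pow, pow_orderOf_eq_one, one_mul] at e2
  have h1 : orderOf k ∣ orderOf a := orderOf_dvd_of_pow_eq_one e2
  have h2 : orderOf k ∣ Nat.card K := by
    have := Subgroup.orderOf_dvd_natCard K hkK
    exact this
  have h3 : orderOf k = 1 := Nat.eq_one_of_dvd_coprimes ho h1 (h2.trans hK2)
  have h4 : k = 1 := orderOf_eq_one_iff.mp h3
  have h5 : g * a * g⁻¹ = a := by rw [e1, h4, mul_one]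
  calc g * a = (g * a * g⁻¹) * g := by group
    _ = a * g := by rw [h5]

theorem exists_pow_coprime (M : ℕ) (hM : 0 < M) (w : G) : ∃ k : ℕ, (orderOf (w ^ (M ^ k))).Coprime M := by
  induction hn : orderOf w using Nat.strong_induction_on generalizing w with
  | _ n ih =>
  by_cases hc : n.Coprime M
  · exact ⟨0, by simpa [hn] using hc⟩
  have hpos : 0 < n := hn ▸ orderOf_pos w
  have h1 : orderOf (w ^ M) = n / n.gcd M := by
    rw [orderOf_pow' w hM.ne', hn]
  have hgt : 1 < n.gcd M := by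
    have h0 : 0 < n.gcd M := Nat.gcd_pos_of_pos_left _ hpos
    rcases Nat.lt_or_ge 1 (n.gcd M) with h | h
    · exact h
    · exact absurd (by omega) hc
  have hlt : orderOf (w ^ M) < n := by
    rw [h1]
    exact Nat.div_lt_self hpos hgt
  obtain ⟨k, hk⟩ := ih _ hlt (w ^ M) rfl
  refine ⟨k + 1, ?_⟩
  rwa [pow_succ', pow_mul]

theorem conj_into (A : Subgroup G) (r : ℕ) [Fact r.Prime] (hr : ¬ r ∣ A.index) (c : G)
    (hc : ∃ i : ℕ, c ^ (r ^ i) = 1) : ∃ g : G, g⁻¹ * c * g ∈ A := by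
  have hP : IsPGroup r (Subgroup.zpowers c) := by
    obtain ⟨i, hi⟩ := hc
    intro y
    obtain ⟨y, j, rfl⟩ := y
    refine ⟨i, ?_⟩
    apply Subtype.ext
    simp only [Subgroup.coe_pow, OneMemClass.coe_one]
    change (c ^ j) ^ (r ^ i) = 1
    rw [← zpow_natCast (c ^ j), zpow_comm, zpow_natCast, hi, one_zpow]
  obtain ⟨q, hq⟩ := hP.nonempty_fixed_point_of_prime_not_dvd_card (G ⧸ A) hr
  obtain ⟨g, rfl⟩ := QuotientGroup.mk_surjective q
  refine ⟨g, ?_⟩
  have h1 : (⟨c, Subgroup.mem_zpowers c⟩ : Subgroup.zpowers c) • (g : G ⧸ A) = (g : G ⧸ A) :=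
    hq ⟨c, Subgroup.mem_zpowers c⟩
  have h2 : ((c * g : G) : G ⧸ A) = (g : G ⧸ A) := h1
  have h3 := QuotientGroup.eq.mp h2.symm
  have h4 : g⁻¹ * (c * g) = g⁻¹ * c * g := by group
  rwa [h4] at h3

/-- A normal `r`-subgroup lies in every subgroup of index prime to `r`. -/
theorem normal_pgroup_le (L : Subgroup G) [L.Normal] (r : ℕ) [Fact r.Prime]
    (hL : ∀ l ∈ L, ∃ k : ℕ, l ^ (r ^ k) = 1) (A : Subgroup G) (hr : ¬ r ∣ A.index) : L ≤ A := by
  have hP : IsPGroup r L := by
    intro y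
    obtain ⟨k, hk⟩ := hL y.1 y.2
    exact ⟨k, Subtype.ext (by simpa using hk)⟩
  obtain ⟨q, hq⟩ := hP.nonempty_fixed_point_of_prime_not_dvd_card (G ⧸ A) hr
  obtain ⟨g, rfl⟩ := QuotientGroup.mk_surjective q
  intro l hl
  have hl' : g * l * g⁻¹ ∈ L := ‹L.Normal›.conj_mem l hl g
  have h1 : (⟨g * l * g⁻¹, hl'⟩ : L) • (g : G ⧸ A) = (g : G ⧸ A) := hq ⟨g * l * g⁻¹, hl'⟩
  have h2 : ((g * l * g⁻¹ * g : G) : G ⧸ A) = (g : G ⧸ A) := h1
  have h3 := QuotientGroup.eq.mp h2.symm
  have h4 : g⁻¹ * (g * l * g⁻¹ * g) = l := by group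
  rwa [h4] at h3

theorem exists_pelement_notMem (A : Subgroup G) (p : ℕ) [Fact p.Prime] (hp : p ∣ A.index) :
    ∃ e : G, (∃ k : ℕ, e ^ (p ^ k) = 1) ∧ e ∉ A := by
  by_contra hcon
  push Not at hcon
  let S : Sylow p G := default
  have hle : (S : Subgroup G) ≤ A := by
    intro e he
    obtain ⟨k, hk⟩ := (IsPGroup.iff_orderOf.mp S.isPGroup') ⟨e, he⟩
    apply hcon e ⟨k, ?_⟩
    have : ((⟨e, he⟩ : S) ^ (p ^ k)) = 1 := by rw [← hk, pow_orderOf_eq_one]
    simpa using congrArg Subtype.val this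
  exact S.not_dvd_index (hp.trans (Subgroup.index_dvd_of_le hle))

theorem mem_of_pow_mem_of_coprime (L : Subgroup G) {f : G} {a b : ℕ} (hc : a.Coprime b)
    (ha : f ^ a ∈ L) (hb : f ^ b ∈ L) : f ∈ L := by
  have h := Nat.gcd_eq_gcd_ab a b
  rw [Nat.Coprime.gcd_eq_one hc] at h
  have e : f = (f ^ a) ^ (Nat.gcdA a b) * (f ^ b) ^ (Nat.gcdB a b) := by
    rw [← zpow_natCast, ← zpow_natCast, ← zpow_mul, ← zpow_mul, ← zpow_add, ← h]
    simp
  rw [e]
  exact L.mul_mem (L.zpow_mem ha _) (L.zpow_mem hb _)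

theorem pow_relIndex_mem (Z B : Subgroup G) [Z.Normal] {b : G} (hb : b ∈ B) : b ^ (Z.relIndex B) ∈ Z := by
  have := Subgroup.pow_index_mem (Z.subgroupOf B) (⟨b, hb⟩ : B)
  simpa [Subgroup.relIndex, Subgroup.mem_subgroupOf] using this

theorem index_pow_dvd (a : G) (k : ℕ) : (C (a ^ k)).index ∣ (C a).index :=
  index_C_le_of_mem (Subgroup.npow_mem_zpowers a k)

end General

end Cfsg.Agent.Lib.Solvable.CoprimeClass
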